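import Groth.Agent.NFApproxLib.Root
import Mathlib

/-! The decomposition field of a prime embeds in the completion below it; unramified inertia. -/

set_option autoImplicit false
universe u

namespace Groth.Agent.NFSplitLib

open NumberField IsDedekindDomain Polynomial Pointwise

variable {K M : Type u} [Field K] [NumberField K] [Field M] [NumberField M] [Algebra K M] [IsGalois K M]

/-- An element fixed by the decomposition group which is `1` at `Q` and `0` at the conjugate primes. -/
theorem exists_separator (Q : Ideal (𝓞 M)) [Q.IsMaximal] :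
    ∃ α : 𝓞 M, (∀ σ ∈ MulAction.stabilizer (M ≃ₐ[K] M) Q, σ • α = α) ∧ α - 1 ∈ Q ∧
      ∀ σ : M ≃ₐ[K] M, σ ∉ MulAction.stabilizer (M ≃ₐ[K] M) Q → σ • α ∈ Q := by
  classical
  let D := MulAction.stabilizer (M ≃ₐ[K] M) Q
  let S : Finset (Ideal (𝓞 M)) := insert Q (Finset.univ.image fun σ : M ≃ₐ[K] M => σ • Q)
  have hmax : ∀ P ∈ S, P.IsMaximal := by
    intro P hP
    simp only [S, Finset.mem_insert, Finset.mem_image, Finset.mem_univ, true_and] at hP
    rcases hP with rfl | ⟨σ, rfl⟩
    · infer_instance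
    · rw [Ideal.pointwise_smul_eq_comap]
      exact Ideal.comap_isMaximal_of_surjective _ (MulSemiringAction.toRingEquiv _ (𝓞 M) σ⁻¹).surjective
  obtain ⟨β, hβ⟩ := Ideal.exists_forall_sub_mem_ideal (I := fun P : S => (P : Ideal (𝓞 M)))
    (fun P P' h => (Ideal.isCoprime_iff_sup_eq).2
      ((hmax _ P.2).coprime_of_ne (hmax _ P'.2) fun e => h (Subtype.ext e)))
    (fun P => if (P : Ideal (𝓞 M)) = Q then 1 else 0)
  refine ⟨∏ τ : D, (τ : M ≃ₐ[K] M) • β, fun σ hσ => ?_, ?_, fun σ hσ => ?_⟩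
  · rw [Finset.smul_prod']
    exact Fintype.prod_equiv (Equiv.mulLeft (⟨σ, hσ⟩ : D)) _ _ fun τ => by rw [smul_smul]; rfl
  · have h1 : β - 1 ∈ Q := by simpa using hβ ⟨Q, Finset.mem_insert_self _ _⟩
    rw [← Ideal.Quotient.eq, map_prod, map_one]
    refine Finset.prod_eq_one fun τ _ => ?_
    rw [← map_one (Ideal.Quotient.mk Q), Ideal.Quotient.eq]
    have := Ideal.smul_mem_pointwise_smul (τ : M ≃ₐ[K] M) _ _ h1
    rwa [MulAction.mem_stabilizer_iff.1 τ.2, smul_sub, smul_one] at this
  · have hσ' : σ⁻¹ • Q ≠ Q := fun e => hσ (inv_inv σ ▸ D.inv_mem (MulAction.mem_stabilizer_iff.2 e))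
    have h1 : β ∈ σ⁻¹ • Q := by
      simpa [hσ'] using hβ ⟨σ⁻¹ • Q, Finset.mem_insert_of_mem (Finset.mem_image_of_mem _ (Finset.mem_univ _))⟩
    rw [Finset.smul_prod']
    refine Ideal.prod_mem _ (i := (1 : D)) (Finset.mem_univ _) ?_ 
    have := Ideal.smul_mem_pointwise_smul σ _ _ h1
    simpa using this

/-- The decomposition field embeds in the completion. -/
theorem exists_algHom_fixedField_stabilizer (w : HeightOneSpectrum (𝓞 K)) (Q : Ideal (𝓞 M)) [Q.IsMaximal]
    [Q.LiesOver w.asIdeal] :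
    Nonempty (IntermediateField.fixedField (MulAction.stabilizer (M ≃ₐ[K] M) Q) →ₐ[K] w.adicCompletion K) := by
  classical
  obtain ⟨α, hfix, h1, hout⟩ := exists_separator (K := K) Q
  have hαQ : α ∉ Q := fun h => ‹Q.IsMaximal›.ne_top ((Ideal.eq_top_iff_one _).2 (by simpa using Q.sub_mem h h1))
  have hle : IntermediateField.fixedField (MulAction.stabilizer (M ≃ₐ[K] M) Q) ≤ IntermediateField.adjoin K {(α : M)} := by
    refine (IntermediateField.fixedField_le ?_).trans (IsGalois.fixedField_fixingSubgroup _).le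
    intro σ hσ
    by_contra hσD
    have hα : σ • α = α := RingOfIntegers.ext ((IntermediateField.mem_fixingSubgroup_iff _ _).1 hσ _
      (IntermediateField.mem_adjoin_simple_self K (α : M)))
    exact hαQ (hα ▸ hout σ hσD)
  have hint : IsIntegral (𝓞 K) α := Algebra.IsIntegral.isIntegral α
  have hintK : IsIntegral K (α : M) := Algebra.IsIntegral.isIntegral _
  set g := minpoly (𝓞 K) α with hg
  have hgK : minpoly K (α : M) = g.map (algebraMap (𝓞 K) K) :=
    minpoly.isIntegrallyClosed_eq_field_fractions K M hint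
  have hmap : (g.map (algebraMap (𝓞 K) (𝓞 M))).map (algebraMap (𝓞 M) M) = (minpoly K (α : M)).map (algebraMap K M) := by
    rw [hgK, Polynomial.map_map, Polynomial.map_map, ← IsScalarTower.algebraMap_eq, ← IsScalarTower.algebraMap_eq]
  -- the derivative at `α` is `1` modulo `Q`
  have hder : ∃ y : 𝓞 M, y - 1 ∈ Q ∧ (derivative (g.map (algebraMap (𝓞 K) (𝓞 M)))).eval α = y := by
    let P : M → Prop := fun x => ∃ y : 𝓞 M, y - 1 ∈ Q ∧ (y : M) = x
    have hP : P ((derivative ((minpoly K (α : M)).map (algebraMap K M))).eval (α : M)) := by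
      rw [((Normal.splits inferInstance (α : M))).eval_root_derivative ((minpoly.monic hintK).map _)
        (by rw [Polynomial.mem_roots ((minpoly.monic hintK).map _).ne_zero, IsRoot, Polynomial.eval_map_algebraMap, minpoly.aeval])]
      refine Multiset.prod_induction P _ ?_ ⟨1, by simp, by simp⟩ fun x hx => ?_
      · rintro a b ⟨y, hy, rfl⟩ ⟨z, hz, rfl⟩
        refine ⟨y * z, ?_, by simp⟩
        rw [show y * z - 1 = (y - 1) * z + (z - 1) by ring]
        exact Q.add_mem (Q.mul_mem_right _ hy) hz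
      · obtain ⟨b, hb, rfl⟩ := Multiset.mem_map.1 hx
        have hnd : ((minpoly K (α : M)).map (algebraMap K M)).roots.Nodup :=
          Polynomial.nodup_roots (Polynomial.Separable.map (p := minpoly K (α : M)) (Algebra.IsSeparable.isSeparable K (α : M)))
        rw [hnd.mem_erase_iff, Polynomial.mem_roots ((minpoly.monic hintK).map _).ne_zero, IsRoot,
          Polynomial.eval_map_algebraMap] at hb
        obtain ⟨σ, hσ⟩ := minpoly.exists_algEquiv_of_root' hintK.isAlgebraic hb.2
        have hσα : ((σ • α : 𝓞 M) : M) = b := hσ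
        refine ⟨α - σ • α, ?_, by simp [← hσα]⟩
        have hσD : σ ∉ MulAction.stabilizer (M ≃ₐ[K] M) Q := fun hD => hb.1 (by rw [← hσα, hfix σ hD])
        rw [sub_right_comm]
        exact Q.sub_mem h1 (hout σ hσD)
    obtain ⟨y, hy, hye⟩ := hP
    refine ⟨y, hy, RingOfIntegers.ext ?_⟩
    rw [hye, ← hmap, derivative_map (g.map (algebraMap (𝓞 K) (𝓞 M))), eval_map_apply]
  obtain ⟨y, hy, hye⟩ := hder
  have hover : ∀ x : 𝓞 K, x ∈ w.asIdeal ↔ algebraMap (𝓞 K) (𝓞 M) x ∈ Q := fun x => Ideal.mem_of_liesOver Q _ x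
  have hev : ∀ P : (𝓞 K)[X], algebraMap (𝓞 K) (𝓞 M) (P.eval 1) - (P.map (algebraMap (𝓞 K) (𝓞 M))).eval α ∈ Q := fun P => by
    rw [← eval₂_at_apply, ← eval_map, map_one]
    refine Q.mem_of_dvd (sub_dvd_eval_sub (1 : 𝓞 M) α _) ?_
    simpa using Q.neg_mem h1
  have hg0 : g.eval 1 ∈ w.asIdeal := by
    rw [hover]
    have := hev g
    rwa [Polynomial.eval_map_algebraMap, minpoly.aeval, sub_zero] at this
  have hg1 : (derivative g).eval 1 ∉ w.asIdeal := fun h => by
    rw [hover] at h
    have := hev (derivative g)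
    rw [← derivative_map, hye] at this
    have h' : y ∈ Q := by simpa using Q.sub_mem h this
    exact ‹Q.IsMaximal›.ne_top ((Ideal.eq_top_iff_one _).2 (by simpa using Q.sub_mem h' hy))
  let j : 𝓞 K →+* w.adicCompletionIntegers K := algebraMap _ _
  have hj : ∀ x, Valued.v ((j x : w.adicCompletionIntegers K) : w.adicCompletion K) = w.intValuation x := fun x =>
    (HeightOneSpectrum.valuedAdicCompletion_eq_valuation' w _).trans (HeightOneSpectrum.valuation_of_algebraMap w x)
  obtain ⟨r, hr⟩ := Groth.Agent.NFApproxLib.exists_root_completion w (g.map j) 1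
    (by rw [← map_one j, eval_map, eval₂_at_apply, hj]; exact (HeightOneSpectrum.intValuation_lt_one_iff_mem w _).2 hg0)
    (by rw [← map_one j, derivative_map, eval_map, eval₂_at_apply, hj]
        exact HeightOneSpectrum.intValuation_eq_one_iff.2 hg1)
  have hroot : (r : w.adicCompletion K) ∈ (minpoly K (α : M)).aroots (w.adicCompletion K) := by
    rw [mem_aroots]
    refine ⟨minpoly.ne_zero hintK, ?_⟩
    rw [hgK, aeval_map_algebraMap]
    have := congrArg (fun z : w.adicCompletionIntegers K => (z : w.adicCompletion K)) hr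
    simp only [eval_map, ZeroMemClass.coe_zero] at this
    rw [← this]
    exact (Polynomial.hom_eval₂ g j (w.adicCompletionIntegers K).subtype r).symm
  exact ⟨((IntermediateField.algHomAdjoinIntegralEquiv K hintK).symm ⟨_, hroot⟩).comp (IntermediateField.inclusion hle)⟩

/-- Inertia fixes every subfield which is unramified below. -/
theorem inertia_fixes_of_unramified {L : Type u} [Field L] [NumberField L] [Algebra K L] [Algebra L M]
    [IsScalarTower K L M] (w : Ideal (𝓞 K)) [w.IsMaximal] (Q : Ideal (𝓞 M)) [Q.IsMaximal] [Q.LiesOver w]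
    (h : (Q.under (𝓞 L)).ramificationIdx (𝓞 K) = 1) {σ : M ≃ₐ[K] M} (hσ : σ ∈ Q.inertia (M ≃ₐ[K] M)) (x : L) :
    σ (algebraMap L M x) = algebraMap L M x := by
  haveI : IsGalois L M := IsGalois.tower_top_of_isGalois K L M
  haveI : IsScalarTower (𝓞 K) (𝓞 L) (𝓞 M) := inferInstance
  haveI : (Q.under (𝓞 L)).IsMaximal := Ideal.isMaximal_comap_of_isIntegral_of_isMaximal Q
  have he : Nat.card (Q.inertia (M ≃ₐ[L] M)) = Nat.card (Q.inertia (M ≃ₐ[K] M)) := by
    rw [Ideal.card_inertia_eq_ramificationIdxIn (Q.under (𝓞 L)) Q,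
      Ideal.card_inertia_eq_ramificationIdxIn w Q,
      Ideal.ramificationIdxIn_eq_ramificationIdx (Q.under (𝓞 L)) Q (M ≃ₐ[L] M),
      Ideal.ramificationIdxIn_eq_ramificationIdx w Q (M ≃ₐ[K] M),
      Ideal.ramificationIdx_tower (R := 𝓞 K) (Q.under (𝓞 L)) Q, h, one_mul]
  let res : Q.inertia (M ≃ₐ[L] M) → Q.inertia (M ≃ₐ[K] M) := fun τ => ⟨(τ : M ≃ₐ[L] M).restrictScalars K, τ.2⟩
  have hinj : Function.Injective res := fun a b e =>
    Subtype.ext (AlgEquiv.restrictScalars_injective K (congrArg Subtype.val e))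
  obtain ⟨τ, hτ⟩ := (Nat.bijective_iff_injective_and_card res).2 ⟨hinj, he⟩ |>.2 ⟨σ, hσ⟩
  rw [← show (τ : M ≃ₐ[L] M).restrictScalars K = σ from congrArg Subtype.val hτ]
  exact (τ : M ≃ₐ[L] M).commutes x

end Groth.Agent.NFSplitLib
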